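import Groth.Agent.Lib.KFlat.Homotopy
import Groth.Agent.Lib.PullKFlat16.Pull
import Groth.Agent.Lib.KInj.DerivedAdj
import Groth.Agent.Lib.CohFound.ModulesInst
import Groth.Prelude.Def_SiteCmp
import Mathlib.CategoryTheory.Functor.Derived.Adjunction

/-!
The derived inverse image of a morphism of ringed sites, left adjoint to the derived direct image.
-/

set_option autoImplicit false
set_option linter.unusedSectionVars false
set_option linter.style.haveILetI false
set_option backward.isDefEq.respectTransparency false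
set_option backward.isDefEq.respectTransparency.types false

universe w v v' u u'

open CategoryTheory CategoryTheory.Limits

attribute [local instance] HasDerivedCategory.standard

namespace Groth.Agent.SiteLpull9

/-- A functor equipped with a comparison invertible on a resolving class is left derived. -/
theorem isLeftDerivedFunctor_of_isIso {C : Type u} [Category.{v} C] [Abelian C]
    [HasDerivedCategory.{w} C] {H : Type u'} [Category.{v'} H]
    (G : HomotopyCategory C (ComplexShape.up ℤ) ⥤ H)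
    (ρ : CochainComplex C ℤ ⥤ CochainComplex C ℤ) (ψ : ρ ⟶ 𝟭 _) (hψ : ∀ K, QuasiIso (ψ.app K))
    (P : CochainComplex C ℤ → Prop) (hρ : ∀ K, P (ρ.obj K))
    (hF : ∀ {K K' : CochainComplex C ℤ} (f : K ⟶ K') [QuasiIso f], P K → P K' →
      IsIso (G.map ((HomotopyCategory.quotient C (ComplexShape.up ℤ)).map f)))
    (X : DerivedCategory C ⥤ H) (α : DerivedCategory.Qh ⋙ X ⟶ G)
    (hα : ∀ K, P K → IsIso (α.app ((HomotopyCategory.quotient C (ComplexShape.up ℤ)).obj K))) :
    X.IsLeftDerivedFunctor α (HomotopyCategory.quasiIso C (ComplexShape.up ℤ)) := by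
  let W := HomotopyCategory.quasiIso C (ComplexShape.up ℤ)
  let q := HomotopyCategory.quotient C (ComplexShape.up ℤ)
  obtain ⟨LF, α', h, hiso⟩ := KFlat.exists_isRightKanExtension_Qh G ρ ψ hψ P hρ hF
  haveI : LF.IsLeftDerivedFunctor α' W := ⟨h⟩
  let τ := LF.leftDerivedLift α' W X α
  have hτ : ∀ Y, IsIso (τ.app (DerivedCategory.Qh.obj Y)) := by
    intro Y
    obtain ⟨K, rfl⟩ : ∃ K, q.obj K = Y := ⟨Y.1, rfl⟩
    have hρK : IsIso (τ.app (DerivedCategory.Qh.obj (q.obj (ρ.obj K)))) := by
      have hf := LF.leftDerived_fac_app α' W X α (q.obj (ρ.obj K))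
      haveI := hiso _ (hρ K)
      haveI := hα _ (hρ K)
      have : IsIso (τ.app (DerivedCategory.Qh.obj (q.obj (ρ.obj K))) ≫
          α'.app (q.obj (ρ.obj K))) := by rw [hf]; infer_instance
      exact IsIso.of_isIso_comp_right _ (α'.app (q.obj (ρ.obj K)))
    haveI : IsIso (DerivedCategory.Qh.map (q.map (ψ.app K))) :=
      Localization.inverts DerivedCategory.Qh W _
        ((HomotopyCategory.quotient_map_mem_quasiIso_iff _).2 (hψ K))
    exact (NatTrans.isIso_app_iff_of_iso τ (asIso (DerivedCategory.Qh.map (q.map (ψ.app K))))).1 hρK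
  haveI : IsIso τ := by
    rw [NatTrans.isIso_iff_isIso_app]
    intro Y
    exact (NatTrans.isIso_app_iff_of_iso τ (DerivedCategory.Qh.objObjPreimageIso Y)).1 (hτ _)
  refine ⟨(Functor.isRightKanExtension_iff_of_iso (asIso τ).symm α' α ?_).1 h⟩
  ext Y
  have hf := LF.leftDerived_fac_app α' W X α Y
  simp [τ] at hf ⊢

variable {C D : Type u} [SmallCategory C] [SmallCategory D] {J : GrothendieckTopology C}
  {K : GrothendieckTopology D} {O_C : Sheaf J CommRingCat.{u}} {O_D : Sheaf K CommRingCat.{u}}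
  (f : ModSite.RMor O_C O_D)

open Groth.Agent.KFlat.Site in
/-- The adapted complexes for inverse image. -/
def Adapted (L : CochainComplex (ModSite.Mod O_D) ℤ) : Prop :=
  KFlat.IsKFlat (TS O_D) L ∧ KFlat.IsKFlat (TS O_D).flip L ∧ ∀ n, KFlat.IsFlat (TS O_D) (L.X n)

open Groth.Agent.KFlat.Site in
theorem adapted_resObj (L : CochainComplex (ModSite.Mod O_D) ℤ) :
    Adapted (KFlat.resObj (cover O_D) L) :=
  ⟨KFlat.isKFlat_resObj _ L (isFlat_cover O_D), KFlat.isKFlat_flip_resObj _ L (isFlat_cover O_D),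
    KFlat.isFlat_resObj_X _ L (isFlat_cover O_D)⟩

open Groth.Agent.KFlat.Site in
theorem isIso_pull_map {L L' : CochainComplex (ModSite.Mod O_D) ℤ} (φ : L ⟶ L') [QuasiIso φ]
    (hL : Adapted L) (hL' : Adapted L') :
    IsIso ((f.pull.mapHomotopyCategory (ComplexShape.up ℤ) ⋙ DerivedCategory.Qh).map
      ((HomotopyCategory.quotient _ _).map φ)) := by
  haveI := SiteCmp.preservesFiniteColimits_pull f
  haveI : QuasiIso ((f.pull.mapHomologicalComplex (ComplexShape.up ℤ)).map φ) :=
    KFlat.quasiIso_map (cover O_D) (isFlat_cover O_D) f.pull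
      (fun S hS h => (ModFlat16.shortExact_pull_of_flat hS ((isFlat_iff _).1 h)).mono_f)
      φ hL hL' (KFlat.splitPres_map _)
  exact (NatIso.isIso_map_iff (DerivedCategory.quotientCompQhIso _)
    ((f.pull.mapHomologicalComplex (ComplexShape.up ℤ)).map φ)).2 inferInstance

open Groth.Agent.KInjLib Groth.Agent.KFlat.Site in
/-- `Rf_*` has a left adjoint, computed on adapted complexes termwise. -/
theorem exists_adjunction [SiteCmp.HasRpushD f] :
    ∃ (G' : DerivedCategory (ModSite.Mod O_D) ⥤ DerivedCategory (ModSite.Mod O_C))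
      (α : DerivedCategory.Qh ⋙ G' ⟶ f.pull.mapHomotopyCategory (ComplexShape.up ℤ) ⋙ DerivedCategory.Qh)
      (_ : G' ⊣ SiteCmp.RpushD f),
      ∀ L, Adapted L → IsIso (α.app ((HomotopyCategory.quotient _ _).obj L)) := by
  let W₁ := HomotopyCategory.quasiIso (ModSite.Mod O_D) (ComplexShape.up ℤ)
  let W₂ := HomotopyCategory.quasiIso (ModSite.Mod O_C) (ComplexShape.up ℤ)
  obtain ⟨G', α, hG, hiso⟩ := KFlat.exists_isRightKanExtension_Qh
    (f.pull.mapHomotopyCategory (ComplexShape.up ℤ) ⋙ DerivedCategory.Qh)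
    (KFlat.resFunctor (cover O_D)) (KFlat.resNatTrans (cover O_D))
    (fun L => KFlat.quasiIso_resπ (cover O_D) L) Adapted adapted_resObj
    (fun φ _ hL hL' => isIso_pull_map f φ hL hL')
  haveI : G'.IsLeftDerivedFunctor α W₁ := ⟨hG⟩
  let β := (SiteCmp.pushKh f).totalRightDerivedUnit DerivedCategory.Qh W₂
  let F' := SiteCmp.RpushD f
  have hK := enoughKInj_of_grothendieck (A := ModSite.Mod O_C)
  have hP := derivingClass_Qh hK
  have hβ : ∀ I, kInjObj (ModSite.Mod O_C) I → IsIso (β.app I) :=
    fun I hI => isIso_unit_of_kInjObj hK β I hI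
  haveI : F'.IsRightDerivedFunctor β W₂ := isRightDerivedFunctor_of_isIso hP β hβ
  haveI : (F' ⋙ G').IsRightDerivedFunctor
      (Functor.whiskerRight β G' ≫ (Functor.associator _ _ _).hom) W₂ :=
    isRightDerivedFunctor_of_isIso hP _ fun I hI => by
      have := hβ I hI
      change IsIso (G'.map (β.app I) ≫ 𝟙 _)
      infer_instance
  haveI : (G' ⋙ F').IsLeftDerivedFunctor
      ((Functor.associator _ _ _).inv ≫ Functor.whiskerRight α F') W₁ :=
    isLeftDerivedFunctor_of_isIso _ (KFlat.resFunctor (cover O_D)) (KFlat.resNatTrans (cover O_D))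
      (fun L => KFlat.quasiIso_resπ (cover O_D) L) Adapted adapted_resObj
      (fun φ _ hL hL' => by
        haveI := isIso_pull_map f φ hL hL'
        exact Functor.map_isIso F' _)
      _ _ fun L hL => by
        haveI := hiso L hL
        change IsIso (𝟙 _ ≫ F'.map (α.app _))
        infer_instance
  exact ⟨G', α, (adjHomotopy f.adj (ComplexShape.up ℤ)).derived W₁ W₂ α β, hiso⟩

end Groth.Agent.SiteLpull9
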