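import Groth.Agent.Lib.SiteLpull9.Tel
import Groth.Agent.Lib.SiteLpull9.Adj
import Groth.Agent.Lib.ModFlat16.Generators
import Groth.Agent.Lib.ModFlat16.Proj
import Groth.Prelude.Def_DerComp
import Groth.Agent.Lib.CohFound.ModulesInst
import Mathlib.Algebra.Homology.HomotopyCategory.Pretriangulated
import Mathlib.CategoryTheory.Abelian.GrothendieckCategory.Basic

/-! Inverse image of the extension by zero of a localisation. -/

set_option autoImplicit false
set_option linter.unusedSectionVars false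
set_option linter.style.haveILetI false
set_option backward.isDefEq.respectTransparency false
set_option backward.isDefEq.respectTransparency.types false

universe u

open CategoryTheory CategoryTheory.Limits Opposite DerComp

attribute [local instance] HasDerivedCategory.standard

namespace Groth.Agent.SiteLpull9

section One

variable {C : Type u} [SmallCategory C] {J : GrothendieckTopology C} (O : Sheaf J CommRingCat.{u})

/-- Multiplication by a section on the free module on its object. -/
noncomputable abbrev mu (V : C) (g : O.obj.obj (op V)) :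
    ModSite.freeOn O V ⟶ ModSite.freeOn O V :=
  (ModSite.extZero O V).map (smulEnd (GSec.ofSect O V g) (ModSite.unit (O.over V)))

theorem freeOnHom_mu (V : C) (g : O.obj.obj (op V)) {N : ModSite.Mod O}
    (h : ModSite.freeOn O V ⟶ N) :
    ModFlat16.freeOnHom O V N (mu O V g ≫ h) =
      (show (ModSite.ringSh O).obj.obj (op V) from g) • ModFlat16.freeOnHom O V N h := by
  dsimp only [ModFlat16.freeOnHom, Equiv.trans_apply]
  rw [mu, Adjunction.homEquiv_naturality_left]
  generalize (ModSite.extZeroAdj O V).homEquiv (ModSite.unit (O.over V)) N h = k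
  set G := GSec.val' (GSec.ofSect O V g) (ModFlat16.topOver V) with hG
  have hg : G = g := by
    rw [hG]
    show (O.obj.map (𝟙 V).op).hom g = g
    rw [op_id, CategoryTheory.Functor.map_id]
    rfl
  show (k.val.app (ModFlat16.topOver V)).hom (G • (1 : (ModSite.ringSh (O.over V)).obj.obj _)) = _
  rw [LinearMap.map_smul]
  show G • _ = _
  rw [hg]
  rfl

/-- Extension by zero of a localisation is a telescope of free modules. -/
noncomputable def extAwayIso (V : C) (g : O.obj.obj (op V)) :
    (ModSite.extZero O V).obj (awayOver O V g) ≅ Tel (mu O V g) :=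
  telIso (ModSite.extZeroAdj O V) (smulEnd (GSec.ofSect O V g) (ModSite.unit (O.over V))) (mu O V g)
    (Iso.refl _) ((Category.comp_id _).trans (Category.id_comp _).symm)

end One

variable {C D : Type u} [SmallCategory C] [SmallCategory D] {J : GrothendieckTopology C}
  {K : GrothendieckTopology D} {O_C : Sheaf J CommRingCat.{u}} {O_D : Sheaf K CommRingCat.{u}}
  (f : ModSite.RMor O_C O_D)

theorem pull_mu (V : D) (g : O_D.obj.obj (op V)) :
    ∃ e : f.pull.obj (ModSite.freeOn O_D V) ≅ ModSite.freeOn O_C (f.fn.obj V),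
      f.pull.map (mu O_D V g) ≫ e.hom =
        e.hom ≫ mu O_C (f.fn.obj V) ((f.sharp.hom.app (op V)).hom g) := by
  let e : ∀ M, (f.pull.obj (ModSite.freeOn O_D V) ⟶ M) ≃ M.val.obj (op (f.fn.obj V)) := fun M =>
    (f.adj.homEquiv _ _).trans (ModFlat16.freeOnHom O_D V (f.push.obj M))
  have he : ∀ {M N} (h : f.pull.obj (ModSite.freeOn O_D V) ⟶ M) (g : M ⟶ N),
      e N (h ≫ g) = g.val.app (op (f.fn.obj V)) (e M h) := fun {M N} h g => by
    show ModFlat16.freeOnHom O_D V (f.push.obj N) (f.adj.homEquiv _ _ (h ≫ g)) = _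
    rw [Adjunction.homEquiv_naturality_right, ModFlat16.freeOnHom_comp]
    rfl
  let F := ModSite.freeOn O_C (f.fn.obj V)
  let φ : f.pull.obj (ModSite.freeOn O_D V) ⟶ F :=
    (e F).symm (ModFlat16.freeOnHom O_C (f.fn.obj V) F (𝟙 F))
  let ψ : F ⟶ f.pull.obj (ModSite.freeOn O_D V) :=
    (ModFlat16.freeOnHom O_C (f.fn.obj V) _).symm (e _ (𝟙 _))
  have hφ : e F φ = ModFlat16.freeOnHom O_C (f.fn.obj V) F (𝟙 F) := Equiv.apply_symm_apply _ _
  have hψ : ∀ {M} (h : f.pull.obj (ModSite.freeOn O_D V) ⟶ M),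
      ModFlat16.freeOnHom O_C (f.fn.obj V) M (ψ ≫ h) = e M h := fun {M} h => by
    rw [ModFlat16.freeOnHom_comp, Equiv.apply_symm_apply, ← he, Category.id_comp]
  have hφ' : ∀ {M} (h : F ⟶ M), e M (φ ≫ h) = ModFlat16.freeOnHom O_C (f.fn.obj V) M h :=
    fun {M} h => by rw [he, hφ, ← ModFlat16.freeOnHom_comp, Category.id_comp]
  refine ⟨⟨φ, ψ, (e _).injective (by rw [hφ', ← Category.comp_id ψ, hψ]),
    (ModFlat16.freeOnHom O_C (f.fn.obj V) F).injective (by rw [hψ, hφ])⟩, ?_⟩
  apply (e _).injective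
  have h₁ : e F (f.pull.map (mu O_D V g) ≫ φ) =
      (show (ModSite.ringSh O_D).obj.obj (op V) from g) •
        (show (f.push.obj F).val.obj (op V) from e F φ) := by
    have h := freeOnHom_mu O_D V g (N := f.push.obj F) (f.adj.homEquiv (ModSite.freeOn O_D V) F φ)
    have h' := f.adj.homEquiv_naturality_left (mu O_D V g) φ
    simp only [e, Equiv.trans_apply]
    exact (congrArg (ModFlat16.freeOnHom O_D V (f.push.obj F)) h').trans h
  refine h₁.trans ?_
  rw [hφ', ← Category.comp_id (mu O_C _ _), freeOnHom_mu, hφ]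
  rfl

variable [SiteCmp.HasRpushD f]

theorem adapted_cone {X : ModSite.Mod O_D} (hX : ModSite.IsFlat X) (μ : X ⟶ X) (k : ℤ) :
    Adapted (CochainComplex.mappingCone
      ((HomologicalComplex.single (ModSite.Mod O_D) (ComplexShape.up ℤ) k).map (telMap μ))) := by
  open Groth.Agent.KFlat.Site in
  haveI : IsGrothendieckAbelian.{u} (ModSite.Mod O_D) :=
    CohFound.isGrothendieckAbelian_sheafOfModules (ModSite.ringSh O_D)
  haveI : HasExactColimitsOfShape (Discrete ℕ) (ModSite.Mod O_D) :=
    (AB4OfSize_shrink.{0, u} (ModSite.Mod O_D)).ofShape ℕ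
  have hS : KFlat.IsFlat (TS O_D) (∐ fun _ : ℕ => X) :=
    KFlat.isFlat_colimit (coproductIsCoproduct fun _ : ℕ => X) fun _ => (isFlat_iff _).2 hX
  have h1 := KFlat.isKFlat_single (T := TS O_D) k _ hS
  have h2 := KFlat.isKFlat_single (T := (TS O_D).flip) k _ hS.flip
  refine ⟨(KFlat.isKFlat_mappingCone_two_out_of_three (T := TS O_D) _).1 h1 h1,
    (KFlat.isKFlat_mappingCone_two_out_of_three (T := (TS O_D).flip) _).1 h2 h2, fun n => ?_⟩
  have hs : ∀ p, KFlat.IsFlat (TS O_D)
      (((HomologicalComplex.single (ModSite.Mod O_D) (ComplexShape.up ℤ) k).obj (∐ fun _ : ℕ => X)).X p) :=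
    fun p => by
      by_cases h : p = k
      · subst h; exact hS.of_iso (HomologicalComplex.singleObjXSelf _ _ _)
      · exact KFlat.isFlat_of_isZero (HomologicalComplex.isZero_single_obj_X _ _ _ _ h)
  exact (KFlat.IsFlat.biprod (hs (n + 1)) (hs n)).of_iso
    (HomologicalComplex.homotopyCofiber.XIsoBiprod
    ((HomologicalComplex.single (ModSite.Mod O_D) (ComplexShape.up ℤ) k).map (telMap μ)) n (n + 1) rfl)

theorem isIso_Q_desc {O : Sheaf J CommRingCat.{u}} {X : ModSite.Mod O} (μ : X ⟶ X) (k : ℤ) :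
    IsIso (DerivedCategory.Q.map (CochainComplex.mappingCone.descShortComplex
      ((telSC μ).map (HomologicalComplex.single (ModSite.Mod O) (ComplexShape.up ℤ) k)))) := by
  haveI : HasExactColimitsOfShape ℕ (ModSite.Mod O) := AB5OfSize.ofShape _
  haveI := CochainComplex.mappingCone.quasiIso_descShortComplex
    ((shortExact_telSC μ).map_of_exact (HomologicalComplex.single (ModSite.Mod O) (ComplexShape.up ℤ) k))
  infer_instance

/-- Isomorphic arrows have isomorphic cones. -/
noncomputable def coneIso {K₁ L₁ K₂ L₂ : CochainComplex (ModSite.Mod O_C) ℤ} (φ₁ : K₁ ⟶ L₁)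
    (φ₂ : K₂ ⟶ L₂) (a : K₁ ≅ K₂) (b : L₁ ≅ L₂) (w : φ₁ ≫ b.hom = a.hom ≫ φ₂) :
    CochainComplex.mappingCone φ₁ ≅ CochainComplex.mappingCone φ₂ where
  hom := CochainComplex.mappingCone.map φ₁ φ₂ a.hom b.hom w
  inv := CochainComplex.mappingCone.map φ₂ φ₁ a.inv b.inv
    (by rw [← cancel_epi a.hom, ← reassoc_of% w]; simp)
  hom_inv_id := by
    rw [← CochainComplex.mappingCone.map_comp]
    simp [CochainComplex.mappingCone.map_id]
  inv_hom_id := by
    rw [← CochainComplex.mappingCone.map_comp]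
    simp [CochainComplex.mappingCone.map_id]

/-- `Lf^*` of a telescope of flat modules. -/
theorem nonempty_left_tel (G' : DerivedCategory (ModSite.Mod O_D) ⥤ DerivedCategory (ModSite.Mod O_C))
    (α : DerivedCategory.Qh ⋙ G' ⟶ f.pull.mapHomotopyCategory (ComplexShape.up ℤ) ⋙ DerivedCategory.Qh)
    (hα : ∀ L, Adapted L → IsIso (α.app ((HomotopyCategory.quotient _ _).obj L)))
    {X : ModSite.Mod O_D} (hX : ModSite.IsFlat X) (μ : X ⟶ X) {Y : ModSite.Mod O_C} (ν : Y ⟶ Y)
    (e : f.pull.obj X ≅ Y) (w : f.pull.map μ ≫ e.hom = e.hom ≫ ν) (k : ℤ) :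
    Nonempty (G'.obj ((DerivedCategory.singleFunctor _ k).obj (Tel μ)) ≅
      (DerivedCategory.singleFunctor _ k).obj (Tel ν)) := by
  let sD := HomologicalComplex.single (ModSite.Mod O_D) (ComplexShape.up ℤ) k
  let sC := HomologicalComplex.single (ModSite.Mod O_C) (ComplexShape.up ℤ) k
  haveI : PreservesColimitsOfShape (Discrete ℕ) f.pull := inferInstance
  let eS : f.pull.obj (∐ fun _ : ℕ => X) ≅ ∐ fun _ : ℕ => Y :=
    PreservesCoproduct.iso f.pull _ ≪≫ Sigma.mapIso fun _ => e
  have hι : ∀ n, f.pull.map (Sigma.ι (fun _ : ℕ => X) n) ≫ eS.hom = e.hom ≫ Sigma.ι (fun _ : ℕ => Y) n :=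
    fun n => by
      have h : f.pull.map (Sigma.ι (fun _ : ℕ => X) n) ≫ (PreservesCoproduct.iso f.pull _).hom =
          Sigma.ι (fun _ : ℕ => f.pull.obj X) n := by
        rw [← Iso.eq_comp_inv, PreservesCoproduct.inv_hom, ι_comp_sigmaComparison]
      dsimp only [eS, Iso.trans_hom]
      rw [reassoc_of% h]
      simp [Sigma.mapIso]
  have ht : f.pull.map (telMap μ) ≫ eS.hom = eS.hom ≫ telMap ν := by
    refine (cancel_epi (PreservesCoproduct.iso f.pull fun _ : ℕ => X).inv).1 ?_
    refine Sigma.hom_ext _ _ fun n => ?_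
    simp only [PreservesCoproduct.inv_hom, ι_comp_sigmaComparison_assoc]
    rw [← f.pull.map_comp_assoc, reassoc_of% (hι n)]
    simp [telMap, Preadditive.comp_sub, Preadditive.sub_comp, reassoc_of% w, hι]
  let s : (f.pull.mapHomologicalComplex (ComplexShape.up ℤ)).obj (sD.obj (∐ fun _ : ℕ => X)) ≅
      sC.obj (∐ fun _ : ℕ => Y) :=
    (HomologicalComplex.singleMapHomologicalComplex f.pull (ComplexShape.up ℤ) k).app _ ≪≫ sC.mapIso eS
  let c₁ : (f.pull.mapHomologicalComplex (ComplexShape.up ℤ)).obj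
      (CochainComplex.mappingCone (sD.map (telMap μ))) ≅ CochainComplex.mappingCone (sC.map (telMap ν)) :=
    CochainComplex.mappingCone.mapHomologicalComplexIso (sD.map (telMap μ)) f.pull ≪≫
      coneIso _ _ s s (by
        dsimp [s]
        have hn := (HomologicalComplex.singleMapHomologicalComplex f.pull (ComplexShape.up ℤ) k).hom.naturality (telMap μ)
        dsimp at hn
        rw [reassoc_of% hn, Category.assoc, ← Functor.map_comp, ← Functor.map_comp, ht])
  haveI := isIso_Q_desc μ k
  haveI := isIso_Q_desc ν k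
  haveI := hα _ (adapted_cone hX μ k)
  exact ⟨G'.mapIso (asIso (DerivedCategory.Q.map (CochainComplex.mappingCone.descShortComplex
      ((telSC μ).map sD)))).symm ≪≫
    G'.mapIso ((DerivedCategory.quotientCompQhIso _).symm.app _) ≪≫
    asIso (α.app ((HomotopyCategory.quotient _ _).obj (CochainComplex.mappingCone (sD.map (telMap μ))))) ≪≫
    (DerivedCategory.quotientCompQhIso _).app _ ≪≫
    DerivedCategory.Q.mapIso c₁ ≪≫
    asIso (DerivedCategory.Q.map (CochainComplex.mappingCone.descShortComplex ((telSC ν).map sC)))⟩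

end Groth.Agent.SiteLpull9
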