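import Groth.Agent.Lib.Telescope29.Basic
import Mathlib.CategoryTheory.Functor.OfSequence
import Mathlib.CategoryTheory.Adjunction.Additive
import Mathlib.CategoryTheory.Abelian.Basic

/-! Telescopes of an endomorphism and left adjoints. -/

set_option autoImplicit false
set_option linter.unusedSectionVars false
set_option backward.isDefEq.respectTransparency false

universe v v' u u'

open CategoryTheory CategoryTheory.Limits

namespace Groth.Agent.SiteLpull9

variable {A : Type u} [Category.{v} A] [Abelian A] [HasColimitsOfShape (Discrete ℕ) A]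
  {B : Type u'} [Category.{v'} B] [Abelian B] [HasColimitsOfShape (Discrete ℕ) B]

/-- The telescope endomorphism. -/
noncomputable abbrev telMap {X : A} (μ : X ⟶ X) : (∐ fun _ : ℕ => X) ⟶ ∐ fun _ : ℕ => X :=
  Sigma.desc fun n => Sigma.ι (fun _ : ℕ => X) n - μ ≫ Sigma.ι (fun _ : ℕ => X) (n + 1)

/-- The telescope. -/
noncomputable abbrev Tel {X : A} (μ : X ⟶ X) : A := cokernel (telMap μ)

/-- The inclusions. -/
noncomputable abbrev telι {X : A} (μ : X ⟶ X) (n : ℕ) : X ⟶ Tel μ :=
  Sigma.ι (fun _ : ℕ => X) n ≫ cokernel.π (telMap μ)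

theorem telι_rel {X : A} (μ : X ⟶ X) (n : ℕ) : telι μ n = μ ≫ telι μ (n + 1) := by
  rw [← sub_eq_zero]
  have h : (Sigma.ι (fun _ : ℕ => X) n ≫ telMap μ) ≫ cokernel.π (telMap μ) = 0 := by
    rw [Category.assoc, cokernel.condition, comp_zero]
  rw [show Sigma.ι (fun _ : ℕ => X) n ≫ telMap μ = _ from Sigma.ι_desc _ _, Preadditive.sub_comp,
    Category.assoc] at h
  exact h

/-- Maps out of the telescope. -/
noncomputable def telDesc {X N : A} (μ : X ⟶ X) (h : ℕ → (X ⟶ N))
    (w : ∀ n, h n = μ ≫ h (n + 1)) : Tel μ ⟶ N :=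
  cokernel.desc _ (Sigma.desc h) (Sigma.hom_ext _ _ fun n => by
    simp [telMap, Preadditive.sub_comp, ← w n])

@[reassoc (attr := simp)]
theorem telι_telDesc {X N : A} (μ : X ⟶ X) (h : ℕ → (X ⟶ N)) (w : ∀ n, h n = μ ≫ h (n + 1))
    (n : ℕ) : telι μ n ≫ telDesc μ h w = h n := by
  simp [telι, telDesc]

theorem tel_hom_ext {X N : A} (μ : X ⟶ X) {a b : Tel μ ⟶ N}
    (h : ∀ n, telι μ n ≫ a = telι μ n ≫ b) : a = b := by
  rw [← cancel_epi (cokernel.π (telMap μ))]
  exact Sigma.hom_ext _ _ fun n => by simpa [telι] using h n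

/-- A left adjoint sends telescopes to telescopes. -/
noncomputable def telIso {G : A ⥤ B} {R : B ⥤ A} (adj : G ⊣ R) {X : A} (μ : X ⟶ X) {Y : B}
    (ν : Y ⟶ Y) (e : G.obj X ≅ Y) (w : G.map μ ≫ e.hom = e.hom ≫ ν) : G.obj (Tel μ) ≅ Tel ν where
  hom := (adj.homEquiv _ _).symm (telDesc μ (fun n => adj.homEquiv _ _ (e.hom ≫ telι ν n)) fun n => by
    rw [← adj.homEquiv_naturality_left, reassoc_of% w, ← telι_rel])
  inv := telDesc ν (fun n => e.inv ≫ G.map (telι μ n)) fun n => by
    rw [← cancel_epi e.hom, ← reassoc_of% w, e.hom_inv_id_assoc, e.hom_inv_id_assoc,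
      ← G.map_comp, ← telι_rel]
  hom_inv_id := by
    apply (adj.homEquiv _ _).injective
    refine tel_hom_ext μ fun n => ?_
    rw [adj.homEquiv_naturality_right, Equiv.apply_symm_apply, ← Category.assoc, telι_telDesc,
      ← adj.homEquiv_naturality_right, ← adj.homEquiv_naturality_left]
    congr 1
    rw [Category.assoc, telι_telDesc, e.hom_inv_id_assoc, Category.comp_id]
  inv_hom_id := by
    refine tel_hom_ext ν fun n => ?_
    rw [← Category.assoc, telι_telDesc, Category.comp_id, Category.assoc,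
      ← adj.homEquiv_naturality_left_symm, telι_telDesc, Equiv.symm_apply_apply, e.inv_hom_id_assoc]

theorem mono_telMap [HasColimitsOfShape ℕ A] [HasExactColimitsOfShape ℕ A] {X : A} (μ : X ⟶ X) : Mono (telMap μ) := by
  let F : ℕ ⥤ A := Functor.ofSequence (X := fun _ => X) fun _ => μ
  obtain ⟨w, hw⟩ := Telescope29.shortExact F
  have h : telMap μ = 𝟙 (∐ F.obj) - DerLim.shiftMap F.obj (fun n => F.map (homOfLE (Nat.le_succ n))) := by
    refine Sigma.hom_ext (f := fun _ : ℕ => X) _ _ fun n => ?_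
    have e : F.map (homOfLE (Nat.le_succ n)) = μ := Functor.ofSequence_map_homOfLE_succ _ n
    refine (Sigma.ι_desc _ _).trans ?_
    refine Eq.symm ((Preadditive.comp_sub _ _ _).trans ?_)
    refine congrArg₂ (· - ·) (Category.comp_id _) ?_
    exact (Sigma.ι_desc _ _).trans (congrArg (· ≫ _) e)
  exact h ▸ hw.mono_f

/-- The telescope as a short exact sequence. -/
noncomputable abbrev telSC {X : A} (μ : X ⟶ X) : ShortComplex A :=
  ShortComplex.mk (telMap μ) (cokernel.π (telMap μ)) (cokernel.condition _)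

theorem shortExact_telSC [HasColimitsOfShape ℕ A] [HasExactColimitsOfShape ℕ A] {X : A} (μ : X ⟶ X) :
    (telSC μ).ShortExact :=
  haveI := mono_telMap μ
  { exact := ShortComplex.exact_of_g_is_cokernel _ (cokernelIsCokernel (telMap μ)) }

end Groth.Agent.SiteLpull9
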